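import Groth.Agent.FlatDvr.Basic

/-!
# Flatness over discrete valuation rings at points of reduced special fibre
-/

set_option autoImplicit false
set_option linter.style.haveILetI false
set_option linter.unusedSectionVars false

universe u v

open CategoryTheory AlgebraicGeometry IsLocalRing TopologicalSpace

namespace Groth.Agent.FlatDvr

/-- Over a discrete valuation ring flatness is the regularity of a uniformiser. -/
theorem flat_of_isSMulRegular {A : Type u} [CommRing A] [IsDomain A] [IsDiscreteValuationRing A]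
    {M : Type v} [AddCommGroup M] [Module A M] {ϖ : A} (hϖ : Irreducible ϖ) (h : IsSMulRegular M ϖ) :
    Module.Flat A M := by
  rw [Module.Flat.flat_iff_torsion_eq_bot_of_isBezout, eq_bot_iff]
  rintro x ⟨⟨a, ha⟩, hax⟩
  obtain ⟨n, u, rfl⟩ := IsDiscreteValuationRing.eq_unit_mul_pow_irreducible (nonZeroDivisors.ne_zero ha) hϖ
  have h1 : ϖ ^ n • x = 0 := by
    have : (↑u⁻¹ : A) • (((u : A) * ϖ ^ n) • x) = 0 := by
      rw [show ((u : A) * ϖ ^ n) • x = 0 from hax, smul_zero]
    rwa [smul_smul, ← mul_assoc, Units.inv_mul, one_mul] at this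
  exact Submodule.mem_bot (R := A) |>.mpr ((h.pow n).right_eq_zero_of_smul h1)

variable {A : Type u} [CommRing A] [IsDomain A] [IsDiscreteValuationRing A]

/-- A morphism to the spectrum of a discrete valuation ring is flat at a point of the special fibre at which
that fibre is reduced as soon as all the maximal points of the fibre through it have generisations in the
generic fibre. -/
theorem flat_stalkMap_of_reduced {X : Scheme.{u}} [IsLocallyNoetherian X] (f : X ⟶ Spec (CommRingCat.of A))
    {s : ↥(Spec (CommRingCat.of A))} (hs : s = closedPoint A) (y : ↥(f.fiber s))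
    (hred : _root_.IsReduced ((f.fiber s).presheaf.stalk y))
    (hgen : ∀ z : X, z ⤳ f.fiberι s y → f z = s → (∀ z' : X, z' ⤳ z → f z' = s → z' = z) →
      ∃ ζ, ζ ⤳ z ∧ f ζ ≠ s) :
    (f.stalkMap (f.fiberι s y)).hom.Flat := by
  subst hs
  let s := closedPoint A
  obtain ⟨ϖ, hϖ⟩ := IsDiscreteValuationRing.exists_irreducible A
  obtain ⟨hsurj, hker⟩ := FibCrit.fiberι_stalkMap f s y
  have hfx : f (f.fiberι s y) = s := (Scheme.Hom.range_fiberι f s).le ⟨y, rfl⟩
  let T := X.presheaf.stalk (f.fiberι s y)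
  let tS := StructureSheaf.toStalk A (f (f.fiberι s y))
  let φ : CommRingCat.of A ⟶ T := tS ≫ f.stalkMap (f.fiberι s y)
  let j := X.fromSpecStalk (f.fiberι s y)
  have hφ : Spec.map φ = j ≫ f := by
    refine (Spec.map_comp _ _).trans ?_
    rw [show Spec.map tS = (Spec (CommRingCat.of A)).fromSpecStalk (f (f.fiberι s y)) from
      (Spec.fromSpecStalk_eq' (R := CommRingCat.of A) (x := f (f.fiberι s y))).symm]
    exact Scheme.SpecMap_stalkMap_fromSpecStalk f
  have hmem : ∀ P : ↥(Spec T), f (j P) = s ↔ φ.hom ϖ ∈ (P : PrimeSpectrum T).asIdeal := fun P ↦ by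
    rw [← Scheme.Hom.comp_apply, ← hφ]
    show PrimeSpectrum.comap φ.hom P = closedPoint A ↔ ϖ ∈ (PrimeSpectrum.comap φ.hom P).asIdeal
    refine ⟨fun h ↦ by rw [h]; exact hϖ.maximalIdeal_eq.ge (Ideal.mem_span_singleton_self ϖ), fun h ↦ PrimeSpectrum.ext ?_⟩
    exact ((maximalIdeal.isMaximal A).eq_of_le (PrimeSpectrum.comap φ.hom P).2.ne_top
      (hϖ.maximalIdeal_eq.le.trans ((Ideal.span_singleton_le_iff_mem _).mpr h))).symm
  let : Algebra A ((Spec (CommRingCat.of A)).presheaf.stalk (f (f.fiberι s y))) := tS.hom.toAlgebra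
  have : IsLocalization.AtPrime ((Spec (CommRingCat.of A)).presheaf.stalk (f (f.fiberι s y)))
      (show PrimeSpectrum A from f (f.fiberι s y)).asIdeal :=
    StructureSheaf.IsLocalization.to_stalk A (f (f.fiberι s y))
  have hsP : (show PrimeSpectrum A from f (f.fiberι s y)).asIdeal = maximalIdeal A :=
    congrArg PrimeSpectrum.asIdeal hfx
  have hm : (maximalIdeal ((Spec (CommRingCat.of A)).presheaf.stalk (f (f.fiberι s y)))).map
      (f.stalkMap (f.fiberι s y)).hom = Ideal.span ({φ.hom ϖ} : Set T) := by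
    rw [← IsLocalization.AtPrime.map_eq_maximalIdeal (show PrimeSpectrum A from f (f.fiberι s y)).asIdeal
      ((Spec (CommRingCat.of A)).presheaf.stalk (f (f.fiberι s y))), hsP, hϖ.maximalIdeal_eq, Ideal.map_map,
      Ideal.map_span, Set.image_singleton]
    rfl
  have : _root_.IsReduced (T ⧸ Ideal.span ({φ.hom ϖ} : Set T)) := by
    rw [← hm, ← hker]
    exact isReduced_of_injective _ (RingHom.quotientKerEquivOfSurjective hsurj).injective
  have hreg : IsSMulRegular T (φ.hom ϖ) := by
    refine isSMulRegular_of_isReduced_quotient _ ?_ this fun P hP ↦ ?_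
    · have h1 := (hmem (closedPoint T)).mp (by rw [Scheme.fromSpecStalk_closedPoint]; exact hfx)
      exact h1
    have hPp : P.IsPrime := hP.1.1
    have hjP : j ⟨P, hPp⟩ ⤳ f.fiberι s y := (Scheme.range_fromSpecStalk (X := X)).le ⟨_, rfl⟩
    have hfP : f (j ⟨P, hPp⟩) = s := (hmem _).mpr (hP.1.2 (Ideal.subset_span rfl))
    have hmax : ∀ z' : X, z' ⤳ j ⟨P, hPp⟩ → f z' = s → z' = j ⟨P, hPp⟩ := by
      intro z' hz' hfz'
      obtain ⟨P', rfl⟩ := (Scheme.range_fromSpecStalk (X := X)).ge (show z' ⤳ f.fiberι s y from hz'.trans hjP)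
      have hle : (P' : PrimeSpectrum T).asIdeal ≤ P :=
        (PrimeSpectrum.le_iff_specializes P' ⟨P, hPp⟩).mpr (j.isEmbedding.isInducing.specializes_iff.mp hz')
      exact congrArg j (PrimeSpectrum.ext (le_antisymm hle (hP.2 ⟨(P' : PrimeSpectrum T).2,
        (Ideal.span_singleton_le_iff_mem _).mpr ((hmem P').mp hfz')⟩ hle)))
    obtain ⟨ζ, hζ, hζs⟩ := hgen _ hjP hfP hmax
    obtain ⟨q, rfl⟩ := (Scheme.range_fromSpecStalk (X := X)).ge (show ζ ⤳ f.fiberι s y from hζ.trans hjP)
    exact ⟨(q : PrimeSpectrum T).asIdeal, (q : PrimeSpectrum T).2,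
      (PrimeSpectrum.le_iff_specializes q ⟨P, hPp⟩).mpr (j.isEmbedding.isInducing.specializes_iff.mp hζ),
      fun h ↦ hζs ((hmem q).mpr h)⟩
  letI : Algebra A T := φ.hom.toAlgebra
  letI : Algebra ((Spec (CommRingCat.of A)).presheaf.stalk (f (f.fiberι s y))) T :=
    (f.stalkMap (f.fiberι s y)).hom.toAlgebra
  have : IsScalarTower A ((Spec (CommRingCat.of A)).presheaf.stalk (f (f.fiberι s y))) T := .of_algebraMap_eq fun _ ↦ rfl
  have hflat : Module.Flat A T := flat_of_isSMulRegular hϖ fun a b hab ↦ hreg hab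
  exact (Module.flat_iff_of_isLocalization (R := A) (S := (Spec (CommRingCat.of A)).presheaf.stalk (f (f.fiberι s y))) (M := T)
    (show PrimeSpectrum A from f (f.fiberι s y)).asIdeal.primeCompl).mpr hflat

end Groth.Agent.FlatDvr
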