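import Mathlib
import Groth.Agent.FibCrit.Stalk

/-!
# Flatness over discrete valuation rings from reduced special fibres
-/

set_option autoImplicit false
set_option linter.style.haveILetI false
set_option linter.unusedSectionVars false

universe u v

open CategoryTheory AlgebraicGeometry IsLocalRing

namespace Groth.Agent.FlatDvr

/-- An element of the radical of a Noetherian local ring is regular when the quotient by it is reduced and none
of the minimal primes over it is minimal in the ring. -/
theorem isSMulRegular_of_isReduced_quotient {T : Type v} [CommRing T] [IsLocalRing T] [IsNoetherianRing T] (π : T)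
    (hπ : π ∈ maximalIdeal T) (hred : _root_.IsReduced (T ⧸ Ideal.span ({π} : Set T)))
    (hmin : ∀ P ∈ (Ideal.span ({π} : Set T)).minimalPrimes, ∃ q : Ideal T, q.IsPrime ∧ q ≤ P ∧ π ∉ q) :
    IsSMulRegular T π := by
  classical
  have hrad : (Ideal.span ({π} : Set T)).radical = Ideal.span {π} :=
    ((Ideal.isRadical_iff_quotient_reduced _).mpr hred).radical
  have hloc : ∀ P ∈ (Ideal.span ({π} : Set T)).minimalPrimes, ∀ (k : ℕ) (a : T), π ^ k * a = 0 →
      ∃ s ∉ P, s * a = 0 := by
    intro P hP k a ha
    have : P.IsPrime := hP.1.1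
    let L := Localization.AtPrime P
    have hm : maximalIdeal L = Ideal.span {algebraMap T L π} := by
      rw [← Set.image_singleton, ← Ideal.map_span]
      refine le_antisymm ?_ (Ideal.map_le_iff_le_comap.mpr ?_)
      · rw [← Localization.AtPrime.map_eq_maximalIdeal, Ideal.map_le_iff_le_comap]
        intro z hz
        obtain ⟨s, hs, hsz⟩ : ∃ s ∉ P, s * z ∈ Ideal.span ({π} : Set T) := by
          -- the other minimal primes miss `P`
          have hfin : (Ideal.span ({π} : Set T)).minimalPrimes.Finite :=
            Ideal.finite_minimalPrimes_of_isNoetherianRing T _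
          have hex : ∀ P' ∈ hfin.toFinset.erase P, ∃ s, s ∈ P' ∧ s ∉ P := fun P' hP' ↦ by
            obtain ⟨hne, hP'⟩ := Finset.mem_erase.mp hP'
            have hP' := hfin.mem_toFinset.mp hP'
            exact SetLike.not_le_iff_exists.mp fun hle ↦ hne (le_antisymm hle (hP.2 hP'.1 hle))
          choose s hs hsP using hex
          refine ⟨∏ P' ∈ (hfin.toFinset.erase P).attach, s P'.1 P'.2, fun h ↦ ?_, ?_⟩
          · obtain ⟨P', -, h'⟩ := (Ideal.IsPrime.prod_mem_iff (p := P)).mp h
            exact hsP _ _ h'
          · refine hrad.le ?_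
            rw [← Ideal.sInf_minimalPrimes, Ideal.mem_sInf]
            intro P' hP'
            by_cases he : P' = P
            · exact Ideal.mul_mem_left _ _ (he ▸ hz)
            · have hmem : P' ∈ hfin.toFinset.erase P := Finset.mem_erase.mpr ⟨he, hfin.mem_toFinset.mpr hP'⟩
              exact Ideal.mul_mem_right _ _ (Ideal.mem_of_dvd P' (Finset.dvd_prod_of_mem _
                (Finset.mem_attach _ ⟨P', hmem⟩)) (hs P' hmem))
        rw [Ideal.mem_comap, IsLocalization.algebraMap_mem_map_algebraMap_iff P.primeCompl]
        exact ⟨s, hs, hsz⟩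
      · rw [Ideal.span_singleton_le_iff_mem, Ideal.mem_comap]
        exact (IsLocalization.AtPrime.to_map_mem_maximal_iff L P π).mpr (hP.1.2 (Ideal.subset_span rfl))
    obtain ⟨q, hq, hqP, hπq⟩ := hmin P hP
    have hq' : (q.map (algebraMap T L)).IsPrime :=
      IsLocalization.isPrime_of_isPrime_disjoint P.primeCompl L q hq
        (Set.disjoint_left.mpr fun s hs hsq ↦ hs (hqP hsq))
    have hπq' : algebraMap T L π ∉ q.map (algebraMap T L) := fun h ↦ by
      obtain ⟨s, hs, hsπ⟩ := (IsLocalization.algebraMap_mem_map_algebraMap_iff P.primeCompl L q π).mp h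
      exact (hq.mem_or_mem hsπ).elim (fun h ↦ hs (hqP h)) hπq
    have : IsNoetherianRing L := IsLocalization.isNoetherianRing P.primeCompl L inferInstance
    have hπ0 : ∀ x : L, algebraMap T L π * x = 0 → x = 0 := by
      intro x hx
      have hpow : ∀ n : ℕ, x ∈ (maximalIdeal L) ^ n := by
        intro n
        induction n with
        | zero => simp
        | succ n ih =>
          rw [hm, Ideal.span_singleton_pow, Ideal.mem_span_singleton] at ih ⊢
          obtain ⟨w, rfl⟩ := ih
          by_cases hwu : IsUnit w
          · exfalso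
            refine hπq' (hq'.mem_of_pow_mem (n + 1) ?_)
            have h0 : algebraMap T L π ^ (n + 1) * w = 0 := by rw [pow_succ']; rw [mul_assoc]; exact hx
            rw [(hwu.mul_left_eq_zero).mp h0]
            exact zero_mem _
          · have hwm : w ∈ maximalIdeal L := (mem_maximalIdeal w).mpr hwu
            rw [hm, Ideal.mem_span_singleton] at hwm
            obtain ⟨w', rfl⟩ := hwm
            exact ⟨w', by ring⟩
      have : x ∈ ⨅ n, (maximalIdeal L) ^ n := by rw [Ideal.mem_iInf]; exact hpow
      rwa [Ideal.iInf_pow_eq_bot_of_isLocalRing _ (maximalIdeal.isMaximal L).ne_top, Ideal.mem_bot] at this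
    have hz : algebraMap T L a = 0 := by
      have h0 : algebraMap T L π ^ k * algebraMap T L a = 0 := by rw [← map_pow, ← map_mul, ha, map_zero]
      clear ha
      induction k with
      | zero => simpa using h0
      | succ k ih => exact ih (hπ0 _ (by rw [← mul_assoc, ← pow_succ']; exact h0))
    obtain ⟨s, hs⟩ := (IsLocalization.map_eq_zero_iff P.primeCompl L a).mp hz
    exact ⟨s, s.2, hs⟩
  have hdiv : ∀ (k : ℕ) (a : T), π ^ k * a = 0 → ∃ b, π ^ (k + 1) * b = 0 ∧ a = π * b := by
    intro k a ha
    have hmem : a ∈ Ideal.span ({π} : Set T) := by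
      rw [← hrad, ← Ideal.sInf_minimalPrimes, Ideal.mem_sInf]
      intro P hP
      obtain ⟨s, hs, hsa⟩ := hloc P hP k a ha
      exact (hP.1.1.mem_or_mem (show s * a ∈ P by rw [hsa]; exact zero_mem _)).resolve_left hs
    obtain ⟨b, rfl⟩ := Ideal.mem_span_singleton.mp hmem
    exact ⟨b, by rw [pow_succ, mul_assoc]; exact ha, rfl⟩
  refine IsSMulRegular.of_right_eq_zero_of_smul fun a ha ↦ ?_
  have : ∀ (n k : ℕ) (a : T), π ^ k * a = 0 → a ∈ (maximalIdeal T) ^ n := by
    intro n
    induction n with
    | zero => simp
    | succ n ih =>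
      intro k a ha
      obtain ⟨b, hb, rfl⟩ := hdiv k a ha
      rw [pow_succ']
      exact Ideal.mul_mem_mul hπ (ih _ b hb)
  have : a ∈ ⨅ n, (maximalIdeal T) ^ n := by
    rw [Ideal.mem_iInf]; exact fun n ↦ this n 1 a (by rw [pow_one]; exact ha)
  rwa [Ideal.iInf_pow_eq_bot_of_isLocalRing _ (maximalIdeal.isMaximal T).ne_top, Ideal.mem_bot] at this

end Groth.Agent.FlatDvr
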